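import Cfsg.Agent.H0.TC
set_option maxRecDepth 100000
namespace H0.TCA71
open H0
noncomputable def r0 : TC.WTr := (.node (.node (.node (.node (.node (.node (.leaf [1] 0 0 false) (.leaf [9] 8 0 false)) (.leaf [4] 4 0 false)) (.node (.node (.leaf [3] 2 0 false) (.leaf [11] 10 0 false)) (.leaf [5] 5 1 false))) (.node (.node (.node (.leaf [0] 0 1 false) (.leaf [8] 8 1 false)) (.leaf [6] 5 0 false)) (.node (.node (.leaf [2] 2 1 false) (.leaf [10] 10 1 false)) (.leaf [7] 7 0 false)))) (.node (.node (.node (.node (.leaf [1] 0 0 false) (.leaf [8, 8] 13 0 false)) (.leaf [6, 9] 20 0 false)) (.node (.node (.leaf [3] 2 0 false) (.leaf [10, 10] 12 0 false)) (.leaf [3, 9, 2, 11] 34 4 false))) (.node (.node (.node (.leaf [0] 0 1 false) (.leaf [2, 11, 6, 3] 34 1 false)) (.leaf [9, 2, 9, 1] 33 3 false)) (.node (.node (.leaf [2] 2 1 false) (.leaf [7, 9, 7] 14 3 false)) (.leaf [11, 7, 9] 14 2 false))))) (.node (.node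 (.node (.node (.node (.leaf [5, 1, 2] 27 3 true) (.leaf [5, 4] 20 0 true)) (.leaf [8, 5] 20 2 true)) (.node (.node (.leaf [1, 4, 2] 26 1 false) (.leaf [3, 8, 2, 5] 34 1 true)) (.leaf [0, 8, 3, 8] 33 1 true))) (.node (.node (.node (.leaf [4, 2, 2] 26 2 false) (.leaf [1, 5, 9, 2] 33 1 false)) (.leaf [3, 5, 3] 32 1 false)) (.node (.node (.leaf [0, 6, 1] 27 1 false) (.leaf [3, 11, 3] 31 0 true)) (.leaf [6, 4, 5] 19 3 false)))) (.node (.node (.node (.node (.leaf [1] 0 0 false) (.leaf [9] 8 0 false)) (.leaf [2, 2, 1] 26 3 false)) (.node (.node (.leaf [3] 2 0 false) (.leaf [2, 10, 2] 31 1 false)) (.leaf [5] 5 1 false))) (.node (.node (.node (.leaf [0] 0 1 false) (.leaf [8] 8 1 false)) (.leaf [10, 3, 8, 2] 34 0 true)) (.node (.node (.leaf [2] 2 1 false) (.leaf [10] 10 1 false)) (.leaf [7] 7 0 false))))))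
noncomputable def tS : Tr := (.leaf (nat_lit 0x3fcd8ebdadf9f5a50780a197f1eac81688687a18e015affedcb0d4cdcb3738006a14ffe5505aae05f2d1c7147603fb466c8abf6765b95220147f000000000000001424407))
noncomputable def tJ : Tr := (.leaf (nat_lit 0x60320a631250250008140600248069200402413205202001080a40924924000))
noncomputable def tQ : Tr := (.leaf (nat_lit 0x0))
noncomputable def tR : TC.WTr := r0
def hl : List ℕ := [4, 5, 6, 6, 5, 7, 8, 9, 9, 8, 10, 11, 11, 10]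
def B : List (List ℕ) := [[0, 1], [1, 0], [2, 3], [3, 2], [4, 4], [5, 6], [6, 5], [7, 7], [8, 9], [9, 8], [10, 11], [11, 10], [10, 10, 10], [8, 8, 8], [7, 9, 7, 11], [7, 8, 7, 8, 7, 8], [7, 8, 7, 9, 7, 8, 7, 9], [7, 9, 7, 9, 7, 9], [5, 5, 5, 5, 5], [6, 4, 5, 7], [4, 6, 9], [4, 5, 4, 5, 4, 5], [4, 5, 4, 6, 4, 5, 4, 6, 4, 5, 4, 6, 4, 5, 4, 6, 4, 5, 4, 6], [4, 6, 4, 6, 4, 6], [0, 0, 0, 0, 0], [2, 2, 2, 2, 2], [2, 2, 1, 4], [1, 3, 0, 6], [0, 2, 0, 2, 0, 2, 0, 2, 0, 2], [0, 2, 1, 3, 0, 2, 1, 3, 0, 2, 1, 3, 0, 2, 1, 3], [0, 3, 0, 3, 0, 3, 0, 3], [2, 10, 2, 10], [3, 5, 3, 5], [2, 9, 1, 5, 9], [3, 9, 2, 11, 6]]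
def subs : List (List ℕ) := [[4], [5], [6], [7], [8], [9], [10], [11]]
def ex : List (List ℕ) := []
def inv (x : ℕ) : ℕ := [1, 0, 3, 2, 4, 6, 5, 7, 9, 8, 11, 10].getD x 0
noncomputable def rS : ℕ → ℕ := rowOf tS (nat_lit 8) (nat_lit 255) (nat_lit 91) (nat_lit 2475880078570760549798248447)
noncomputable def rJ : ℕ → ℕ := rowOf tJ (nat_lit 8) (nat_lit 255) (nat_lit 42) (nat_lit 4398046511103)
noncomputable def C : TC.Cfg where
  S := look rS (nat_lit 7) (nat_lit 127)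
  J := look rJ (nat_lit 3) (nat_lit 7)
  Q := lookQ tQ (nat_lit 8) (nat_lit 1) (nat_lit 1)
  R := tR.get
  hl := fun x => hl.contains x
  n := (nat_lit 6)
  M := (nat_lit 6)
  top := (nat_lit 96)
  nl := (nat_lit 12)
  need := (nat_lit 12)
  nr := (nat_lit 4)
theorem k0 : TC.chkRange C 0 1 = true := by decide +kernel
theorem rows0 : ∀ c < (0 + 1) * 64, c < C.M → TC.chkRow C c = true :=
  TC.rows_step (TC.rows_zero C) k0
theorem main {G : Type*} [Group G] (g : ℕ → G) (hB : ∀ r ∈ B, ev g r = 1) (H : Subgroup G)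
    (hH : ∀ w ∈ subs, ev g w ∈ H) :
    H.relIndex (Subgroup.closure (g '' {x | x < 12})) ≠ 0 ∧
      H.relIndex (Subgroup.closure (g '' {x | x < 12})) ≤ 6 :=
  TC.index_le C B subs ex inv hl tR.hint rfl (by decide +kernel) (by decide +kernel)
    (TC.rows_done rows0 (by decide +kernel)) g hB H hH
end H0.TCA71
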